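import Groth.Agent.BCLib.TensorFT
import Groth.Agent.AmpleLib.ExtendMod
import Groth.Agent.ProjBundleLib.TwistIso

/-! The sheaf of a tensor product of modules. -/

set_option autoImplicit false
set_option linter.style.haveILetI false
set_option backward.isDefEq.respectTransparency false

universe u

open CategoryTheory CategoryTheory.Limits AlgebraicGeometry TopologicalSpace Opposite MonoidalCategory
open Groth.Agent.ParaFLib Groth.Agent.DCohLib
open scoped TensorProduct

noncomputable section

namespace Groth.Agent.TildeTensorLib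

variable {R : CommRingCat.{u}}

/-- Sections coming from the module. -/
def toTop (M : ModuleCat.{u} R) : M →ₗ[R] Γ(tilde M, ⊤) := (tilde.toOpen M ⊤).hom

/-- Sections from the module on any open. -/
def toAny (M : ModuleCat.{u} R) (O : (Spec R).Opens) (m : M) : Γ(tilde M, O) := (tilde.toOpen M O).hom m

theorem gen_toTop_one : Gen (L := tilde (ModuleCat.of R R)) (⊤ : (Spec R).Opens) (toTop (ModuleCat.of R R) 1) := by
  intro O hO
  have h : (fun r : Γ(Spec R, O) => r • (tilde (ModuleCat.of R R)).presheaf.map (homOfLE hO).op (toTop (ModuleCat.of R R) 1)) =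
      fun r : Γ(Spec R, O) => (show Γ(tilde (ModuleCat.of R R), O) from r) := funext fun r => by
    show r • toAny (ModuleCat.of R R) O 1 = _
    show r * (algebraMap R Γ(Spec R, O) 1) = r
    rw [map_one, mul_one]
  rw [h]
  exact Function.bijective_id

/-- The pairing on global sections. -/
def betaLin (M N : ModuleCat.{u} R) : M ⊗[R] N →ₗ[R]
    Γ(((DCoh.tensorBi (X := Spec R)).obj (tilde M)).obj (tilde N), ⊤) :=
  TensorProduct.lift (LinearMap.mk₂ R (fun m n => pairS (tilde M) (tilde N) (toTop M m) (toTop N n))
    (fun m m' n => by rw [map_add]; exact pairS_add_left _ _ _)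
    (fun r m n => by rw [map_smul]; exact pairS_smul_left _ _ _)
    (fun m n n' => by rw [map_add]; exact pairS_add_right _ _ _)
    (fun r m n => by rw [map_smul]; exact pairS_smul_right _ _ _))

/-- The pairing as a morphism of modules. -/
def beta (M N : ModuleCat.{u} R) : ModuleCat.of R (M ⊗[R] N) ⟶
    moduleSpecΓFunctor.obj (((DCoh.tensorBi (X := Spec R)).obj (tilde M)).obj (tilde N)) :=
  ModuleCat.ofHom (Y := Γ(((DCoh.tensorBi (X := Spec R)).obj (tilde M)).obj (tilde N), ⊤)) (betaLin M N)

/-- The comparison. -/
def alpha (M : ModuleCat.{u} R) : tensorLeft M ⋙ tilde.functor R ⟶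
    tilde.functor R ⋙ (DCoh.tensorBi (X := Spec R)).obj (tilde M) where
  app N := (tilde.adjunction.homEquiv _ _).symm (beta M N)
  naturality {N N'} f := by
    show (tilde.functor R).map ((tensorLeft M).map f) ≫ (tilde.adjunction.homEquiv _ _).symm (beta M N') =
      (tilde.adjunction.homEquiv _ _).symm (beta M N) ≫ _
    rw [← Adjunction.homEquiv_naturality_left_symm, ← Adjunction.homEquiv_naturality_right_symm]
    refine congrArg _ (ModuleCat.hom_ext (TensorProduct.ext' fun m n => ?_))
    show pairS (tilde M) (tilde N') (toTop M m) (toTop N' (f.hom n)) =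
      (((DCoh.tensorBi (X := Spec R)).obj (tilde M)).map (tilde.map f)).app ⊤ (pairS (tilde M) (tilde N) (toTop M m) (toTop N n))
    rw [tensorBi_app_pairS_right]
    refine congrArg _ ?_
    exact congr(($(tilde.toOpen_map_app f ⊤)).hom n).symm

theorem bijective_beta_self (M : ModuleCat.{u} R) : Function.Bijective (betaLin M (ModuleCat.of R R)) := by
  let e := toTop (ModuleCat.of R R) 1
  have h : ⇑(betaLin M (ModuleCat.of R R)) = (fun c : Γ(tilde M, ⊤) => pairS (tilde M) (tilde (ModuleCat.of R R)) c e) ∘
      toTop M ∘ (TensorProduct.rid R M) := funext fun z => by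
    induction z using TensorProduct.induction_on with
    | zero =>
      simp only [Function.comp_apply, map_zero]
      exact (map_zero (AddMonoidHom.mk' (fun t : Γ(tilde M, ⊤) => pairS (tilde M) (tilde (ModuleCat.of R R)) t e)
        fun a b => pairS_add_left a b e)).symm
    | tmul m r =>
      show pairS _ _ (toTop M m) (toTop (ModuleCat.of R R) r) = pairS _ _ (toTop M (r • m)) (toTop (ModuleCat.of R R) 1)
      rw [map_smul]
      have hr : toTop (ModuleCat.of R R) r = r • toTop (ModuleCat.of R R) 1 := by
        rw [← map_smul]; exact congrArg _ (mul_one r).symm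
      rw [hr]
      exact (pairS_smul_right _ _ _).trans (pairS_smul_left _ _ _).symm
    | add a b ha hb =>
      rw [map_add, ha, hb]
      simp only [Function.comp_apply, map_add]
      exact (pairS_add_left _ _ _).symm
  rw [h]
  exact Function.Bijective.comp (g := fun c : Γ(tilde M, ⊤) => pairS (tilde M) (tilde (ModuleCat.of R R)) c e)
    ⟨fun c c' h => AmpleLib.pairS_gen_injective gen_toTop_one h, fun t => ProjBundleLib.pairS_gen_surjective gen_toTop_one t⟩
    (((ConcreteCategory.isIso_iff_bijective (tilde.toOpen M ⊤)).1 inferInstance).comp (TensorProduct.rid R M).bijective)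

theorem exists_iso (M N : ModuleCat.{u} R) :
    Nonempty (tilde (ModuleCat.of R (M ⊗[R] N)) ≅ ((DCoh.tensorBi (X := Spec R)).obj (tilde M)).obj (tilde N)) := by
  haveI : PreservesColimitsOfSize.{u, u} (tilde.functor R ⋙ (DCoh.tensorBi (X := Spec R)).obj (tilde M)) :=
    TildeKFlat.preservesColimits_tensTil_obj R (tilde M)
  haveI : IsIso ((alpha M).app (ModuleCat.of R R)) := by
    show IsIso ((tilde.adjunction.homEquiv _ _).symm _)
    rw [Adjunction.homEquiv_counit]
    haveI : IsIso (beta M (ModuleCat.of R R)) :=
      (ConcreteCategory.isIso_iff_bijective _).2 (bijective_beta_self M)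
    haveI : IsIso ((tilde.adjunction (R := R)).counit.app
        (((DCoh.tensorBi (X := Spec R)).obj (tilde M)).obj (tilde (ModuleCat.of R R)))) := by
      haveI hq : Coh.IsQCoh (((DCoh.tensorBi (X := Spec R)).obj (tilde M)).obj (tilde (ModuleCat.of R R))) :=
        TildeD.isQCoh_tensorBi_tilde _ (TildeD.isQCoh_tilde M) _
      rw [tilde.adjunction.isIso_counit_app_iff_mem_essImage, essImage_tilde]
      exact hq
    exact @IsIso.comp_isIso _ _ _ _ _ _ _ ((tilde.functor R).map_isIso _) ‹_›
  haveI := TildeKFlat.isIso_of_isIso_app_self (alpha M) inferInstance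
  exact ⟨asIso ((alpha M).app N)⟩

end Groth.Agent.TildeTensorLib
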